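import Cfsg.Agent.Lib.Compute.HallJanko.AutJ2
import Cfsg.Agent.Lib.Compute.HallJanko.SchurJ2
import Cfsg.Agent.Lib.Compute.Schur.Bound
import Cfsg.Agent.Lib.Compute.ActionImage
import Cfsg.Agent.Lib.Icosian.Simplicity

/-! Outer automorphisms and Schur multiplier of `Spor.J2`. -/

set_option autoImplicit false

namespace Cfsg.Agent.Lib.Compute.HallJanko

open Cfsg.Spor Cfsg.Agent.Lib.Icosian Cfsg.Agent.Lib.Compute.Schur

theorem card_out_J2 : Nat.card (Cfsg.Out J2) = 2 := by
  rw [card_out_congr (j2Equiv.trans (MulEquiv.subgroupCongr lineHom_range))]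
  exact card_out_eq_two_of_normalizer lineCoding gensOK_lines j2Chain_ok j2Aut_ok j2Tri_outer
    (n := j2Outer) (gensOK_literal (S := [j2Outer]) (Equiv.refl (Fin 315)) (show 315 ≤ 2 ^ 9 by norm_num)
      (by decide +kernel) _ (List.mem_singleton_self _)) j2Outer_norm (by decide +kernel)

/-- Product of generators of the double cover. -/
noncomputable def genWord : List (Fin 4) → twoJ2
  | [] => 1
  | t :: u => genEl t * genWord u

/-- The same word on coordinates. -/
def evalQ : List (Fin 4) → Q8 × Q8 × Q8 → Q8 × Q8 × Q8
  | [], x => x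
  | t :: u, x => refQ (genLine t) (evalQ u x)

/-- Every step stays in the lattice. -/
def evalOK : List (Fin 4) → Q8 × Q8 × Q8 → Bool
  | [], x => inLam x
  | t :: u, x => evalOK u x && dotOK (evalQ u x) (genLine t) && inLam (evalQ (t :: u) x)

theorem genWord_spec : ∀ (u : List (Fin 4)) (x : Q8 × Q8 × Q8) (hx : evalOK u x = true)
    (v : icoLeech), (v : V3) = toV x → ((genWord u).1 v : V3) = toV (evalQ u x)
  | [], x, _, v, hv => hv
  | t :: u, x, h, v, hv => by
    simp only [evalOK, Bool.and_eq_true] at h
    have ih := genWord_spec u x h.1.1 v hv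
    have hin : inLam (evalQ u x) = true := by
      cases u with
      | nil => exact h.1.1
      | cons s u =>
        have := h.1.1
        simp only [evalOK, Bool.and_eq_true] at this
        exact this.2
    show qrefl (toV (genLine t)) ((genWord u).1 v : V3) = toV (refQ (genLine t) (evalQ u x))
    rw [ih, qrefl_toV hin (genLine_spec t).1 h.1.2]

theorem genWord_append : ∀ u v : List (Fin 4), genWord (u ++ v) = genWord u * genWord v
  | [], v => (one_mul _).symm
  | t :: u, v => by rw [List.cons_append, genWord, genWord, genWord_append u v, mul_assoc]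

/-- Code of the image of a word. -/
noncomputable def lineCode : List (Fin 4) → ℕ
  | [] => (permOps 9 315).one
  | t :: u => (permOps 9 315).mul (genAt permGens (permOps 9 315) t).1 (lineCode u)

theorem liftWord_line :
    Nat.beq (lineCode (liftWord ++ liftWord)) (permOps 9 315).one = true := by decide +kernel

theorem negOne_mem_commutator : (⟨negOne, negOne_mem⟩ : twoJ2) ∈ commutator twoJ2 := by
  have hgen : ∀ x : Abelianization twoJ2, x ^ 2 = 1 := by
    intro x
    obtain ⟨g, rfl⟩ := QuotientGroup.mk_surjective x
    have hle : twoJ2 ≤ ((powMonoidHom 2).comp (Abelianization.of (G := twoJ2))).ker.map twoJ2.subtype := by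
      rw [twoJ2]
      refine (Subgroup.closure_le _).2 fun f hf => ?_
      have hfm : f ∈ twoJ2 := Subgroup.subset_closure hf
      refine ⟨⟨f, hfm⟩, ?_, rfl⟩
      obtain ⟨r, hr4, hr⟩ := hf
      have h2 : (⟨f, hfm⟩ : twoJ2) ^ 2 = 1 := by
        refine Subtype.ext (Equiv.ext fun v => Subtype.ext ?_)
        show ((f * f) v : V3) = v
        rw [Equiv.Perm.mul_apply, hr, hr, qrefl_qrefl hr4]
      show (Abelianization.of (⟨f, hfm⟩ : twoJ2)) ^ 2 = 1
      rw [← map_pow, h2, map_one]
    obtain ⟨g', hg', he⟩ := hle g.2
    rw [show g' = g from Subtype.ext he] at hg'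
    exact hg'
  have hsq : ∀ g : twoJ2, g * g ∈ commutator twoJ2 := fun g => by
    rw [← Abelianization.ker_of, MonoidHom.mem_ker, map_mul, ← pow_two]
    exact hgen _
  let g := genWord liftWord
  have hline : lineHom (g * g) = 1 := by
    apply lineCoding.inj
    have key : ∀ u : List (Fin 4), lineCoding.enc (lineHom (genWord u)) = lineCode u := by
      intro u
      induction u with
      | nil => rw [genWord, map_one, lineCoding.one_enc, lineCode]
      | cons t u ih => rw [genWord, map_mul, ← lineCoding.mul_enc, ih, enc_gen, lineCode]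
    rw [← genWord_append, key, lineCoding.one_enc]
    exact Nat.eq_of_beq_eq_true liftWord_line
  rcases kernel_cases hline with h | h
  · exfalso
    have hspec := genWord_spec (liftWord ++ liftWord) testVec (by decide +kernel)
      ⟨toV testVec, toV_mem test_inLam⟩ rfl
    rw [genWord_append, h] at hspec
    have hne : evalQ (liftWord ++ liftWord) testVec ≠ testVec := by decide +kernel
    exact hne (toV_injective hspec.symm)
  · rw [← show g * g = (⟨negOne, negOne_mem⟩ : twoJ2) from Subtype.ext h]
    exact hsq g

theorem schur_J2 : Cfsg.HasCyclicSchurMultiplier J2 2 := by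
  have e := j2Equiv.trans (MulEquiv.subgroupCongr lineHom_range)
  refine Cfsg.Agent.Lib.Schur.hasSchurMultiplier_congr ?_ e.symm (MulEquiv.refl _)
  let τ : twoJ2 →* genGroup lineCoding permGens :=
    e.toMonoidHom.comp (QuotientGroup.mk' (Subgroup.center twoJ2))
  have hker : τ.ker = lineHom.ker := by
    rw [← center_eq_ker]
    ext x
    simp [τ, MonoidHom.mem_ker]
  have hcard : Nat.card τ.ker = 2 := by rw [hker, card_ker]
  haveI : IsCyclic τ.ker := by
    haveI := Fact.mk Nat.prime_two
    exact isCyclic_of_prime_card hcard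
  haveI : Finite twoJ2 := Nat.finite_of_card_ne_zero (by rw [card_twoJ2]; norm_num)
  have hτ : Cfsg.IsStemExtension τ := by
    refine ⟨e.surjective.comp (QuotientGroup.mk'_surjective _), by rw [hker, center_eq_ker], fun z hz => ?_⟩
    rw [hker] at hz
    rcases kernel_cases (MonoidHom.mem_ker.mp hz) with h | h
    · rw [show z = 1 from Subtype.ext h]; exact one_mem _
    · rw [show z = ⟨negOne, negOne_mem⟩ from Subtype.ext h]; exact negOne_mem_commutator
  refine hasCyclicSchurMultiplier_of_cover lineCoding gensOK_lines j2Chain_ok j2Chain_size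
    [j2Schur2, j2Schur3, j2Schur5] ?_ ?_
    (rest_of_factors [2, 3, 5, 7] (by norm_num) ?_ (by decide +kernel)) τ hτ hcard
  · rintro A hA
    simp only [List.mem_cons, List.not_mem_nil, or_false] at hA
    rcases hA with rfl | rfl | rfl
    · exact ⟨Nat.prime_two, j2Schur2_ok⟩
    · exact ⟨Nat.prime_three, j2Schur3_ok⟩
    · exact ⟨show Nat.Prime 5 by norm_num, j2Schur5_ok⟩
  · rintro A hA
    simp only [List.mem_cons, List.not_mem_nil, or_false] at hA
    rcases hA with rfl | rfl | rfl <;> decide
  · intro q hq
    fin_cases hq <;> norm_num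

end Cfsg.Agent.Lib.Compute.HallJanko
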